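import Cfsg.Agent.H272.Eight.Sieg
import Mathlib.LinearAlgebra.Projectivization.Cardinality

/-!
# The parabolic subgroups of `Sp₄(q)`: orders and characters (helper272, for S4899)
-/

set_option autoImplicit false

open Cfsg
open scoped LinearAlgebra.Projectivization

namespace Cfsg.Agent.H272.Eight

open Module Cfsg.Agent.H477.HC Cfsg.Agent.H53.HC Cfsg.Agent.OddOrderCharacters.Clifford

universe u v

section lines

variable {K : Type u} [Field K] {V : Type v} [AddCommGroup V] [Module K V]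

/-- the number of the lines of a plane -/
theorem card_lines [Finite K] {W : Submodule K V} (hW : finrank K W = 2) :
    Nat.card {m : Submodule K V // m ≤ W ∧ finrank K m = 1} = Nat.card K + 1 := by
  have h1 : Nat.card (ℙ K W) = Nat.card K + 1 := by
    rw [Projectivization.card_of_finrank K W (n := 2) hW, Finset.sum_range_succ, Finset.sum_range_one,
      pow_zero, pow_one, add_comm]
  rw [← h1]
  symm
  refine Nat.card_congr ((Projectivization.equivSubmodule K W).trans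
    { toFun := fun m => ⟨m.1.map W.subtype, Submodule.map_subtype_le W m.1, by
        exact (Submodule.finrank_map_subtype_eq W m.1).trans m.2⟩
      invFun := fun m => ⟨m.1.comap W.subtype, ?_⟩
      left_inv := fun m => Subtype.ext (Submodule.comap_map_eq_of_injective W.injective_subtype m.1)
      right_inv := fun m => Subtype.ext ?_ })
  · have h2 : (m.1.comap W.subtype).map W.subtype = m.1 := by
      rw [Submodule.map_comap_subtype, inf_eq_right]
      exact m.2.1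
    rw [← Submodule.finrank_map_subtype_eq W, h2]
    exact m.2.2
  · change (m.1.comap W.subtype).map W.subtype = m.1
    rw [Submodule.map_comap_subtype, inf_eq_right]
    exact m.2.1

/-- an automorphism of a plane -/
theorem exists_aut {W : Submodule K V} (hW : finrank K W = 2) {u v u' v' : V} (hu : u ∈ W) (hv : v ∈ W)
    (hu' : u' ∈ W) (hv' : v' ∈ W) (h : LinearIndependent K ![u, v]) (h' : LinearIndependent K ![u', v']) :
    ∃ a : W ≃ₗ[K] W, ((a ⟨u, hu⟩ : W) : V) = u' ∧ ((a ⟨v, hv⟩ : W) : V) = v' := by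
  have key : ∀ {x y : V} (hx : x ∈ W) (hy : y ∈ W), LinearIndependent K ![x, y] →
      ∃ b : Basis (Fin 2) K W, b 0 = ⟨x, hx⟩ ∧ b 1 = ⟨y, hy⟩ := by
    intro x y hx hy hxy
    have h1 : LinearIndependent K ![(⟨x, hx⟩ : W), ⟨y, hy⟩] := by
      refine LinearIndependent.of_comp W.subtype ?_
      convert hxy using 1
      funext i
      fin_cases i <;> rfl
    refine ⟨basisOfLinearIndependentOfCardEqFinrank h1 (by rw [Fintype.card_fin, hW]), ?_, ?_⟩
    · rw [coe_basisOfLinearIndependentOfCardEqFinrank]; rfl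
    · rw [coe_basisOfLinearIndependentOfCardEqFinrank]; rfl
  obtain ⟨b, hb0, hb1⟩ := key hu hv h
  obtain ⟨b', hb0', hb1'⟩ := key hu' hv' h'
  refine ⟨b.equiv b' (Equiv.refl _), ?_, ?_⟩
  · rw [← hb0, Basis.equiv_apply, Equiv.refl_apply, hb0']
  · rw [← hb1, Basis.equiv_apply, Equiv.refl_apply, hb1']

/-- a second vector of a plane -/
theorem exists_indep {W : Submodule K V} (hW : finrank K W = 2) {u : V} (hu : u ≠ 0) :
    ∃ v ∈ W, LinearIndependent K ![u, v] := by
  have h1 : ¬ W ≤ (K ∙ u) := by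
    intro hle
    have : FiniteDimensional K W := FiniteDimensional.of_finrank_pos (by omega)
    have h2 := Submodule.finrank_mono hle
    rw [finrank_span_singleton hu, hW] at h2
    omega
  obtain ⟨v, hv, hv'⟩ := SetLike.not_le_iff_exists.1 h1
  refine ⟨v, hv, (LinearIndependent.pair_iff' hu).2 fun a ha => hv' ?_⟩
  rw [← ha]
  exact Submodule.smul_mem _ _ (Submodule.mem_span_singleton_self u)

end lines

section par

variable {K : Type u} [Field K] {V : Type v} [AddCommGroup V] [Module K V] {F : CForm K V}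

/-- the action on the subspaces -/
@[reducible] def act (F : CForm K V) : MulAction F.iso (Submodule K V) where
  smul g W := W.map (F.iso.subtype g : V →ₗ[K] V)
  one_smul W := Submodule.map_id W
  mul_smul g h W := by
    change W.map (F.iso.subtype (g * h) : V →ₗ[K] V) =
      (W.map (F.iso.subtype h : V →ₗ[K] V)).map (F.iso.subtype g : V →ₗ[K] V)
    rw [← Submodule.map_comp]
    rfl

theorem map_span (g : F.iso) (u : V) : (K ∙ u).map (F.iso.subtype g : V →ₗ[K] V) = K ∙ ((g : V ≃ₗ[K] V) u) := by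
  rw [Submodule.map_span, Set.image_singleton]
  rfl

/-- **the orders** -/
theorem card_par [Finite K] [FiniteDimensional K V] [Finite F.iso] {W : Submodule K V} (hW2 : finrank K W = 2)
    (hL : ∀ a : W ≃ₗ[K] W, ∃ g : F.iso, ∀ w : W, (g : V ≃ₗ[K] V) w = a w) {u : V} (hu : u ∈ W) (hu0 : u ≠ 0) :
    Nat.card (stabW F.iso.subtype W) =
      (Nat.card K + 1) * Nat.card (stabW F.iso.subtype W ⊓ stabW F.iso.subtype (K ∙ u) : Subgroup F.iso) ∧
    ∀ x ∈ stabW F.iso.subtype W, x ∉ stabW F.iso.subtype W ⊓ stabW F.iso.subtype (K ∙ u) →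
      Nat.card K * Nat.card (dsub (stabW F.iso.subtype W ⊓ stabW F.iso.subtype (K ∙ u)) x) =
        Nat.card (stabW F.iso.subtype W ⊓ stabW F.iso.subtype (K ∙ u) : Subgroup F.iso) := by
  let _ := act F
  have hL' : ∀ a : W ≃ₗ[K] W, ∃ g ∈ stabW F.iso.subtype W, ∀ w : W, (g : V ≃ₗ[K] V) w = a w := by
    intro a
    obtain ⟨g, hg⟩ := hL a
    refine ⟨g, map_eq_of_le F.iso.subtype fun w hw => ?_, hg⟩
    change (g : V ≃ₗ[K] V) w ∈ W
    rw [hg ⟨w, hw⟩]
    exact (a ⟨w, hw⟩).2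
  have key : ∀ u' ∈ W, u' ≠ 0 → ∃ v ∈ W, LinearIndependent K ![u', v] := fun u' _ h => exists_indep hW2 h
  refine card_of_trans (stabW F.iso.subtype W) _ {m : Submodule K V | m ≤ W ∧ finrank K m = 1} (K ∙ u)
    (card_lines hW2) ⟨(Submodule.span_singleton_le_iff_mem _ _).2 hu, finrank_span_singleton hu0⟩ ?_ ?_ ?_ ?_
  · rintro g hg m ⟨hm, hm'⟩
    refine ⟨?_, ?_⟩
    · change m.map (F.iso.subtype g : V →ₗ[K] V) ≤ W
      rw [mem_stabW] at hg
      rw [← hg]
      exact Submodule.map_mono hm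
    · rw [← hm']
      exact LinearEquiv.finrank_map_eq (F.iso.subtype g) m
  · intro g
    exact Iff.rfl
  · rintro m ⟨hm, hm'⟩
    obtain ⟨u', hu', hu0'⟩ := (Submodule.ne_bot_iff m).1 (by
      rintro rfl
      rw [finrank_bot] at hm'
      omega)
    have hmu : m = K ∙ u' := by
      symm
      have : FiniteDimensional K m := FiniteDimensional.of_finrank_pos (by omega)
      apply Submodule.eq_of_le_of_finrank_eq ((Submodule.span_singleton_le_iff_mem _ _).2 hu')
      rw [finrank_span_singleton hu0', hm']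
    obtain ⟨v, hv, h1⟩ := key u hu hu0
    obtain ⟨v', hv', h2⟩ := key u' (hm hu') hu0'
    obtain ⟨a, ha, -⟩ := exists_aut hW2 hu hv (hm hu') hv' h1 h2
    obtain ⟨g, hg, hg'⟩ := hL' a
    refine ⟨g, hg, ?_⟩
    change (K ∙ u).map (F.iso.subtype g : V →ₗ[K] V) = m
    rw [map_span, hg' ⟨u, hu⟩, ha, hmu]
  · rintro m ⟨hm, hm1⟩ m' ⟨hm', hm1'⟩ hne hne'
    have key2 : ∀ m : Submodule K V, m ≤ W → finrank K m = 1 → m ≠ K ∙ u →
        ∃ v ∈ W, m = K ∙ v ∧ LinearIndependent K ![u, v] := by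
      intro m hm hm1 hne
      obtain ⟨v, hv, hv0⟩ := (Submodule.ne_bot_iff m).1 (by
        rintro rfl
        rw [finrank_bot] at hm1
        omega)
      have hmu : m = K ∙ v := by
        symm
        have : FiniteDimensional K m := FiniteDimensional.of_finrank_pos (by omega)
        apply Submodule.eq_of_le_of_finrank_eq ((Submodule.span_singleton_le_iff_mem _ _).2 hv)
        rw [finrank_span_singleton hv0, hm1]
      refine ⟨v, hm hv, hmu, (LinearIndependent.pair_iff' hu0).2 fun a ha => hne ?_⟩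
      have ha0 : a ≠ 0 := by
        rintro rfl
        rw [zero_smul] at ha
        exact hv0 ha.symm
      rw [hmu, ← ha]
      exact Submodule.span_singleton_smul_eq (IsUnit.mk0 a ha0) u
    obtain ⟨v, hv, rfl, h1⟩ := key2 m hm hm1 hne
    obtain ⟨v', hv', rfl, h2⟩ := key2 m' hm' hm1' hne'
    obtain ⟨a, ha, ha'⟩ := exists_aut hW2 hu hv hu hv' h1 h2
    obtain ⟨g, hg, hg'⟩ := hL' a
    refine ⟨g, ⟨hg, ?_⟩, ?_⟩
    · change g ∈ stabW F.iso.subtype (K ∙ u)
      rw [mem_stabW, map_span, hg' ⟨u, hu⟩, ha]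
    · change (K ∙ v).map (F.iso.subtype g : V →ₗ[K] V) = K ∙ v'
      rw [map_span, hg' ⟨v, hv⟩, ha']

theorem mem_of_smul [FiniteDimensional K V] {z : F.iso} {a : K} (hz : ∀ v, (z : V ≃ₗ[K] V) v = a • v)
    (W : Submodule K V) : z ∈ stabW F.iso.subtype W := by
  refine map_eq_of_le F.iso.subtype fun w hw => ?_
  change (z : V ≃ₗ[K] V) w ∈ W
  rw [hz]
  exact W.smul_mem _ hw

/-- **The characters of the degrees `|G : P|` and `q |G : P|`.** -/
theorem sieg_chars [Finite K] [FiniteDimensional K V] [Fintype F.iso] (hσ : ∀ a, F.σ a = a) (hS : ∀ v, F.Sing v)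
    {W : Submodule K V} (hW : F.TS W) (hWp : F.perp W = W) (hW2 : finrank K W = 2)
    (hL : ∀ a : W ≃ₗ[K] W, ∃ g : F.iso, ∀ w : W, (g : V ≃ₗ[K] V) w = a w)
    (hZ : ∀ z ∈ Subgroup.center F.iso, ∃ a : K, a ^ 2 = 1 ∧ ∀ v, (z : V ≃ₗ[K] V) v = a • v)
    (c : Kˣ →* ℂˣ) {b : Kˣ} (hb : c b * c b ≠ 1) :
    ∃ χ₁ χ₂ : F.iso → ℂ, IsIrrCharacter F.iso χ₁ ∧ IsIrrCharacter F.iso χ₂ ∧
      χ₁ 1 = ((stabW F.iso.subtype W).index : ℂ) ∧
      χ₂ 1 = (((stabW F.iso.subtype W).index * Nat.card K : ℕ) : ℂ) ∧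
      (∀ z ∈ Subgroup.center F.iso, χ₁ z = χ₁ 1) ∧ ∀ z ∈ Subgroup.center F.iso, χ₂ z = χ₂ 1 := by
  classical
  obtain ⟨u, hu, hu0⟩ := (Submodule.ne_bot_iff W).1 (by
      rintro rfl
      rw [finrank_bot] at hW2
      omega)
  obtain ⟨h3, h2⟩ := card_par hW2 hL hu hu0
  refine exists_two (stabW F.iso.subtype W ⊓ stabW F.iso.subtype (K ∙ u)) (stabW F.iso.subtype W) inf_le_left
    (c.comp (detHom F W)) (fun x hx => ?_) Nat.card_pos h2 h3 (Subgroup.center F.iso) le_rfl (fun z hz => ?_)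
    (fun z hz => ?_)
  · obtain ⟨t, m1, m2, m3, m4, d1, d3, -, -⟩ := sep_one hσ hS hW hWp hu hu0 hx b
    refine ⟨⟨t, m1, m2⟩, ⟨m3, m4⟩, ?_⟩
    rw [MonoidHom.comp_apply, MonoidHom.comp_apply]
    change c (detHom F W ⟨t, m1⟩) ≠ c (detHom F W ⟨_, m3⟩)
    rw [d1, d3, map_inv]
    intro h
    apply hb
    nth_rw 1 [h]
    exact inv_mul_cancel _
  · obtain ⟨a, -, ha⟩ := hZ z hz
    exact ⟨mem_of_smul ha _, mem_of_smul ha _⟩
  · obtain ⟨a, ha1, ha⟩ := hZ z hz
    rw [MonoidHom.comp_apply]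
    have h4 : detHom F W ⟨z, mem_of_smul ha W⟩ = 1 := by
      apply Units.ext
      rw [detHom_smul F _ fun v _ => ha v, hW2, ha1, Units.val_one]
    change c (detHom F W ⟨z, mem_of_smul ha W⟩) = 1
    rw [h4, map_one]

/-- **The characters of degree `(q + 1) |G : P|`**, if the centre is trivial. -/
theorem borel_char [Finite K] [FiniteDimensional K V] [Fintype F.iso] (hσ : ∀ a, F.σ a = a) (hS : ∀ v, F.Sing v)
    {W : Submodule K V} (hW : F.TS W) (hWp : F.perp W = W) (hW2 : finrank K W = 2)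
    (hL : ∀ a : W ≃ₗ[K] W, ∃ g : F.iso, ∀ w : W, (g : V ≃ₗ[K] V) w = a w)
    (hZ : ∀ z ∈ Subgroup.center F.iso, z = 1)
    (c d : Kˣ →* ℂˣ) {b : Kˣ} (h1 : d b ≠ 1) (h2 : c b * c b ≠ 1) (h3 : d b * c b * c b ≠ 1)
    (h4 : (d b * c b) * (d b * c b) ≠ 1) :
    ∃ χ : F.iso → ℂ, IsIrrCharacter F.iso χ ∧
      χ 1 = (((Nat.card K + 1) * (stabW F.iso.subtype W).index : ℕ) : ℂ) ∧
      ∀ z ∈ Subgroup.center F.iso, χ z = χ 1 := by
  classical
  obtain ⟨u, hu, hu0⟩ := (Submodule.ne_bot_iff W).1 (by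
      rintro rfl
      rw [finrank_bot] at hW2
      omega)
  obtain ⟨h5, -⟩ := card_par hW2 hL hu hu0
  obtain ⟨B, hB⟩ : ∃ B, B = stabW F.iso.subtype W ⊓ stabW F.iso.subtype (K ∙ u) := ⟨_, rfl⟩
  have hB1 : B ≤ stabW F.iso.subtype W := hB ▸ inf_le_left
  have hB2 : B ≤ stabW F.iso.subtype (K ∙ u) := hB ▸ inf_le_right
  have hmem : ∀ {t}, t ∈ stabW F.iso.subtype W → t ∈ stabW F.iso.subtype (K ∙ u) → t ∈ B := fun h h' => hB ▸ ⟨h, h'⟩
  rw [← hB] at h5
  let f : B →* ℂˣ := (d.comp ((detHom F (K ∙ u)).comp (Subgroup.inclusion hB2))) *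
    (c.comp ((detHom F W).comp (Subgroup.inclusion hB1)))
  have hf : ∀ (t : F.iso) (ht1 : t ∈ stabW F.iso.subtype W) (ht2 : t ∈ stabW F.iso.subtype (K ∙ u)),
      f ⟨t, hmem ht1 ht2⟩ = d (detHom F (K ∙ u) ⟨t, ht2⟩) * c (detHom F W ⟨t, ht1⟩) := fun _ _ _ => rfl
  have e0 : ∀ a : ℂˣ, a = a⁻¹ → a * a = 1 := by
    intro a ha
    nth_rw 1 [ha]
    exact inv_mul_cancel _
  have e1 : ∀ a a' : ℂˣ, a = a'⁻¹ → a * a' = 1 := by
    rintro a a' rfl
    exact inv_mul_cancel _
  have key : ∀ x : F.iso, x ∉ B → ∃ (t : B) (hx : x⁻¹ * t * x ∈ B), f t ≠ f ⟨x⁻¹ * t * x, hx⟩ := by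
    intro x hx
    by_cases hxW : x ∈ stabW F.iso.subtype W
    · have hxu : x ∉ stabW F.iso.subtype (K ∙ u) := fun h => hx (hmem hxW h)
      obtain ⟨t, m1, m2, m3, m4, d1, d3, d2, d4⟩ := sep_two hσ hS hW hu hu0 hxW hxu b
      refine ⟨⟨t, hmem m1 m2⟩, hmem m3 m4, ?_⟩
      rw [hf t m1 m2]
      refine ne_of_ne_of_eq ?_ (hf _ m3 m4).symm
      rw [d1, d2, d3, d4, map_one, one_mul]
      intro h
      exact h1 (mul_eq_right.1 h)
    · obtain ⟨t, m1, m2, m3, m4, d1, d3, d2, d4⟩ := sep_one hσ hS hW hWp hu hu0 hxW b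
      refine ⟨⟨t, hmem m1 m2⟩, hmem m3 m4, ?_⟩
      rw [hf t m1 m2]
      refine ne_of_ne_of_eq ?_ (hf _ m3 m4).symm
      rw [d1, d3, map_inv]
      rcases d2 with d2 | d2 <;> rcases d4 with d4 | d4 <;> rw [d2, d4]
      · rw [map_inv, ← mul_inv]
        intro h
        exact h4 (e0 _ h)
      · rw [map_one, one_mul]
        intro h
        exact h3 (e1 _ _ h)
      · rw [map_one, one_mul, map_inv, ← mul_inv]
        intro h
        apply h3
        rw [mul_comm (d b * c b)]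
        exact e1 _ _ h
      · rw [map_one, one_mul, one_mul]
        intro h
        exact h2 (e0 _ h)
  obtain ⟨χ, hχ, hχ1, -⟩ := exists_one B f key ⊥ bot_le bot_le (by
    intro z hz
    have hz1 : z = 1 := Subgroup.mem_bot.1 hz
    subst hz1
    exact map_one f)
  refine ⟨χ, hχ, ?_, fun z hz => by rw [hZ z hz]⟩
  rw [hχ1]
  have h6 := Subgroup.relIndex_mul_index hB1
  have h7 : B.relIndex (stabW F.iso.subtype W) = Nat.card K + 1 := by
    have h8 := Subgroup.card_mul_index (B.subgroupOf (stabW F.iso.subtype W))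
    rw [h5, Nat.card_congr (Subgroup.subgroupOfEquivOfLe hB1).toEquiv, mul_comm (Nat.card K + 1)] at h8
    exact Nat.eq_of_mul_eq_mul_left Nat.card_pos h8
  rw [← h6, h7]

end par

end Cfsg.Agent.H272.Eight
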