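import Cfsg.Agent.H272.Eight.Sp
import Cfsg.Agent.S2545
import Cfsg.Agent.H677.DG.SpRank
import Cfsg.Agent.H677.WeilIrr

/-!
# The degrees of `PSp₄(q)` used for S4899 (helper272)

`deg_F`, `deg_G` : `(q + 1)(q² + 1)`, `q (q + 1)(q² + 1)`; `deg_M` : `(q + 1)² (q² + 1)` for `q ≥ 8` even; `deg_E` : `q⁴ - 1`;
`deg_St` : `q⁴`; `deg_CD` : `q (q + 1)² / 2`, `q (q² + 1) / 2`; `deg_W` : `(q² ± 1) / 2` for `q` odd.
-/

set_option autoImplicit false
set_option linter.unusedSectionVars false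

open Cfsg

namespace Cfsg.Agent.H272.Eight

open Module Cfsg.Agent.H477.HC Cfsg.Agent.H53.HC Cfsg.Agent.Characters

universe u

theorem exists_hom (K : Type u) [Field K] [Finite K] :
    ∃ (c : Kˣ →* ℂˣ) (b : Kˣ), orderOf (c b) = Nat.card K - 1 := by
  classical
  obtain ⟨b, hb⟩ := IsCyclic.exists_generator (α := Kˣ)
  have hn : Nat.card Kˣ = Nat.card K - 1 := Nat.card_units K
  have hn0 : Nat.card Kˣ ≠ 0 := Nat.card_pos.ne'
  have hob : orderOf b = Nat.card Kˣ := by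
    rw [← Nat.card_zpowers]
    exact Nat.card_congr (Equiv.subtypeUnivEquiv hb)
  obtain ⟨ζ, hζ⟩ : ∃ ζ : ℂˣ, orderOf ζ = Nat.card Kˣ := by
    have h1 := Complex.isPrimitiveRoot_exp (Nat.card Kˣ) hn0
    exact ⟨_, (h1.isUnit_unit hn0).eq_orderOf.symm⟩
  refine ⟨monoidHomOfForallMemZpowers (g := b) (g' := ζ) hb (by rw [hob, hζ]), b, ?_⟩
  rw [monoidHomOfForallMemZpowers_apply_gen, hζ, hn]

section

variable (K : Type u) [Field K] [Finite K]

theorem exists_W : ∃ W : Submodule K (Fin 2 ⊕ Fin 2 → K), W ∈ (CForm.spF K 2).Om 2 := by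
  obtain ⟨p, hp⟩ := CharP.exists K
  have hpr : p.Prime := (CharP.char_is_prime_or_zero K p).resolve_right (CharP.char_ne_zero_of_finite K p)
  have : Fact p.Prime := ⟨hpr⟩
  obtain ⟨⟨W₀, hW₀⟩, -⟩ := CForm.spF_frame (K := K) (p := p) 2 0
  exact ⟨W₀, hW₀⟩

theorem deg_FG (hq : 4 ≤ Nat.card K) : (Nat.card K + 1) * (Nat.card K ^ 2 + 1) ∈ charDegrees (PSp 2 K) ∧
    (Nat.card K + 1) * (Nat.card K ^ 2 + 1) * Nat.card K ∈ charDegrees (PSp 2 K) := by
  classical
  have := finite_iso (CForm.spF K 2)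
  let _ := Fintype.ofFinite (CForm.spF K 2).iso
  obtain ⟨W, hW⟩ := exists_W K
  obtain ⟨c, b, hb⟩ := exists_hom K
  have hb2 : c b * c b ≠ 1 := by
    intro h
    have h1 : orderOf (c b) ∣ 2 := orderOf_dvd_of_pow_eq_one (by rw [pow_two, h])
    have h2 := Nat.le_of_dvd (by norm_num) h1
    omega
  obtain ⟨χ₁, χ₂, h1, h2, h3, h4, h5, h6⟩ := sieg_chars (F := CForm.spF K 2) (fun _ => rfl) (sing_all K) hW.1
    (perp_eq K hW) hW.2 (exists_levi' K _ hW) (fun z hz => center_sp K hz) c hb2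
  rw [index_stab K _ hW, card_Om_two] at h3 h4
  exact ⟨psp_of_iso K h1 h5 h3, psp_of_iso K h2 h6 h4⟩

theorem deg_M (hq : 8 ≤ Nat.card K) (h2K : (2 : K) = 0) :
    (Nat.card K + 1) * ((Nat.card K + 1) * (Nat.card K ^ 2 + 1)) ∈ charDegrees (PSp 2 K) := by
  classical
  have := finite_iso (CForm.spF K 2)
  let _ := Fintype.ofFinite (CForm.spF K 2).iso
  obtain ⟨W, hW⟩ := exists_W K
  obtain ⟨c, b, hb⟩ := exists_hom K
  have hpow : ∀ k, 0 < k → k < 7 → c b ^ k ≠ 1 := by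
    intro k hk0 hk h
    have h1 : orderOf (c b) ∣ k := orderOf_dvd_of_pow_eq_one h
    have h2 := Nat.le_of_dvd hk0 h1
    omega
  have hZ : ∀ z ∈ Subgroup.center (CForm.spF K 2).iso, z = 1 := by
    intro z hz
    obtain ⟨a, ha, haz⟩ := center_sp K hz
    have ha1 : a = 1 := by
      have h : (a - 1) ^ 2 = 0 := by linear_combination ha + (1 - a) * h2K
      exact sub_eq_zero.1 (pow_eq_zero_iff two_ne_zero |>.1 h)
    apply Subtype.ext
    apply LinearEquiv.ext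
    intro v
    rw [haz v, ha1, one_smul]
    rfl
  obtain ⟨χ, h1, h2, h3⟩ := borel_char (F := CForm.spF K 2) (fun _ => rfl) (sing_all K) hW.1
    (perp_eq K hW) hW.2 (exists_levi' K _ hW) hZ c c (b := b)
    (by have := hpow 1 (by norm_num) (by norm_num); rwa [pow_one] at this)
    (by have := hpow 2 (by norm_num) (by norm_num); rwa [pow_two] at this)
    (by
      have := hpow 3 (by norm_num) (by norm_num)
      have e : c b ^ 3 = c b * c b * c b := by rw [pow_succ, pow_two]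
      rwa [e] at this)
    (by
      have := hpow 4 (by norm_num) (by norm_num)
      have e : c b ^ 4 = c b * c b * (c b * c b) := by rw [← pow_two (c b), ← pow_add]
      rwa [e] at this)
  rw [index_stab K _ hW, card_Om_two] at h2
  exact psp_of_iso K h1 h3 h2

theorem deg_E (hq : 4 ≤ Nat.card K) : Nat.card K ^ 4 - 1 ∈ charDegrees (PSp 2 K) := by
  have hfin' : Finite (PSp 2 K) := by unfold PSp; infer_instance
  obtain ⟨c, hc⟩ := exists_cus_sq K rfl 2 (by norm_num) (fun h => by omega) (fun h => by omega) (fun _ => le_rfl)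
  obtain ⟨χ, hχ, hχ1⟩ := psp_char (k := 2) (n := 0) hc (one_pow 2) (neg_one_sq)
  refine mem_cd (S := PSp 2 K) hχ ?_
  rw [hχ1]
  have h1 : dg (CForm.spF K 2) 2 = Nat.card K ^ 4 - 1 := by
    unfold dg
    rw [card_Om_two]
    obtain ⟨x, hx⟩ : ∃ x, Nat.card K = x + 1 := ⟨Nat.card K - 1, by omega⟩
    rw [hx, Finset.prod_Ico_succ_top (by norm_num), Finset.Ico_self, Finset.prod_empty, one_mul, pow_one,
      Nat.add_sub_cancel]
    have : (x + 1) ^ 4 = (x + 1 + 1) * ((x + 1) ^ 2 + 1) * x + 1 := by ring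
    omega
  exact congrArg _ h1

theorem deg_CD : (∃ a, 2 * a = Nat.card K * (Nat.card K + 1) ^ 2 ∧ a ∈ charDegrees (PSp 2 K)) ∧
    ∃ a, 2 * a = Nat.card K * (Nat.card K ^ 2 + 1) ∧ a ∈ charDegrees (PSp 2 K) := by
  have hfin' : Finite (PSp 2 K) := by unfold PSp; infer_instance
  let _ := Fintype.ofFinite K
  obtain ⟨χ₁, χ₂, f, g, h1, h2, h3, h4, h5, h6⟩ := Cfsg.Agent.H677.SpRank.exists_chars (F := K) (m := 2) le_rfl
  have hq : 1 < Nat.card K := Finite.one_lt_card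
  obtain ⟨x, hx⟩ : ∃ x, Nat.card K = x + 2 := ⟨Nat.card K - 2, by omega⟩
  rw [hx] at h5 h6 ⊢
  push_cast at h5 h6
  have hx1 : ((x : ℤ) + 1) ≠ 0 := by positivity
  refine ⟨⟨f, ?_, mem_cd h1 h3⟩, ⟨g, ?_, mem_cd h2 h4⟩⟩
  · have h7 : (2 : ℤ) * f = (x + 2) * (x + 2 + 1) ^ 2 := by
      apply mul_left_cancel₀ hx1
      linear_combination h5
    exact_mod_cast h7
  · have h7 : (2 : ℤ) * g = (x + 2) * ((x + 2) ^ 2 + 1) := by
      apply mul_left_cancel₀ hx1
      linear_combination h6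
    exact_mod_cast h7

theorem deg_W (h2 : (2 : K) ≠ 0) : ∃ a, (2 * a = Nat.card K ^ 2 + 1 ∨ 2 * a = Nat.card K ^ 2 - 1) ∧
    a ∈ charDegrees (PSp 2 K) := by
  obtain ⟨χ, hχ⟩ := Cfsg.Agent.H677.WeilIrr.exists_irr_psp (F := K) (n := 2) (by norm_num) h2
  exact ⟨_, hχ, ⟨χ, rfl⟩⟩

theorem card_eq : Nat.gcd 2 (Nat.card K - 1) * Nat.card (PSp 2 K) =
    Nat.card K ^ 4 * ((Nat.card K ^ 2 - 1) * (Nat.card K ^ 4 - 1)) := by
  let _ := Fintype.ofFinite K
  have h0 : Fintype.card K = Nat.card K := Nat.card_eq_fintype_card.symm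
  have h1 := S0245.result h0 2
  have h2 := S0246.result h0 2 (by norm_num)
  have h3 := Subgroup.card_mul_index (Subgroup.center ↥(Matrix.symplecticGroup (Fin 2) K))
  rw [h1, h2, Finset.prod_range_succ, Finset.prod_range_one] at h3
  exact h3

theorem deg_St : Nat.card K ^ 4 ∈ charDegrees (PSp 2 K) := by
  have hfin' : Finite (PSp 2 K) := by unfold PSp; infer_instance
  let _ := Fintype.ofFinite K
  obtain ⟨p, hp⟩ := CharP.exists K
  have hpr : p.Prime := (CharP.char_is_prime_or_zero K p).resolve_right (CharP.char_ne_zero_of_finite K p)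
  have : Fact p.Prime := ⟨hpr⟩
  obtain ⟨s, hs⟩ := card_pow K p
  have hq : 1 < Nat.card K := Finite.one_lt_card
  obtain ⟨χ, hχ, h1⟩ := S2545.result (F := K) p 2 (by norm_num)
  obtain ⟨P⟩ := (inferInstance : Nonempty (Sylow p (PSp 2 K)))
  have h2 := (h1 P).1
  have h3 : Nat.card P = Nat.card K ^ 4 := by
    have hc := card_eq K
    obtain ⟨g, hg⟩ : ∃ g, g = Nat.gcd 2 (Nat.card K - 1) := ⟨_, rfl⟩
    obtain ⟨m, hm⟩ : ∃ m, m = (Nat.card K ^ 2 - 1) * (Nat.card K ^ 4 - 1) := ⟨_, rfl⟩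
    have hs0 : s ≠ 0 := by
      rintro rfl
      rw [pow_zero] at hs
      omega
    have hpq : p ∣ Nat.card K := by rw [hs]; exact dvd_pow_self p hs0
    have hnot : ∀ k, 0 < k → ¬ p ∣ Nat.card K ^ k - 1 := by
      intro k hk h
      have h4 : p ∣ Nat.card K ^ k := Dvd.dvd.trans hpq (dvd_pow_self _ hk.ne')
      have h5 : 0 < Nat.card K ^ k := by positivity
      have h6 : p ∣ 1 := by
        have := (Nat.dvd_sub h4 h)
        rwa [Nat.sub_sub_self h5] at this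
      exact hpr.one_lt.ne' (Nat.dvd_one.1 h6)
    have hgp : ¬ p ∣ g := by
      intro h
      have h4 := hnot 1 one_pos
      rw [pow_one] at h4
      exact h4 (h.trans (hg ▸ Nat.gcd_dvd_right 2 _))
    have hmp : ¬ p ∣ m := by
      rw [hm]
      intro h
      rcases hpr.dvd_mul.1 h with h | h
      · exact hnot 2 (by norm_num) h
      · exact hnot 4 (by norm_num) h
    rw [← hg, ← hm] at hc
    obtain ⟨k, hk⟩ := (IsPGroup.iff_card (p := p)).1 P.isPGroup'
    have h5 := P.not_dvd_index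
    have h6 := (P : Subgroup (PSp 2 K)).card_mul_index
    have h6' : Nat.card P * (P : Subgroup (PSp 2 K)).index = Nat.card (PSp 2 K) := h6
    obtain ⟨i, hi⟩ : ∃ i, i = (P : Subgroup (PSp 2 K)).index := ⟨_, rfl⟩
    rw [← hi] at h5 h6'
    rw [hk] at h6' ⊢
    rw [hs, ← pow_mul] at hc ⊢
    rw [← h6'] at hc
    -- `g * (p ^ k * i) = p ^ (s * 4) * m`
    have c1 : Nat.Coprime (p ^ k) m := Nat.Coprime.pow_left _ ((Nat.Prime.coprime_iff_not_dvd hpr).2 hmp)
    have c2 : Nat.Coprime (p ^ (s * 4)) (g * i) := Nat.Coprime.pow_left _ ((Nat.Prime.coprime_iff_not_dvd hpr).2 (by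
      intro h
      rcases hpr.dvd_mul.1 h with h | h
      · exact hgp h
      · exact h5 h))
    apply Nat.dvd_antisymm
    · refine c1.dvd_of_dvd_mul_right ?_
      rw [← hc]
      exact ⟨g * i, by ring⟩
    · refine c2.dvd_of_dvd_mul_right ?_
      exact ⟨m, by rw [← hc]; ring⟩
  refine mem_cd (S := PSp 2 K) hχ ?_
  rw [h2, h3]

end

end Cfsg.Agent.H272.Eight
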