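import Cfsg.Agent.H272.Eight.TwoKer
import Cfsg.Agent.H362.Dl.SpCount

/-!
# Characters of `Sp₄(q)` induced from the Siegel parabolic and from the Borel subgroup (helper272, for S4899)
-/

set_option autoImplicit false

open Cfsg

namespace Cfsg.Agent.H272.Eight

open Module Cfsg.Agent.H477.HC Cfsg.Agent.H53.HC Cfsg.Agent.OddOrderCharacters.Clifford

universe u v

section geom

variable {K : Type u} [Field K] {V : Type v} [AddCommGroup V] [Module K V] (F : CForm K V)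

/-- the determinant on an invariant subspace -/
noncomputable def detHom (W : Submodule K V) : stabW F.iso.subtype W →* Kˣ :=
  LinearEquiv.det.comp (resHom F.iso.subtype W)

/-- the determinant of an element which is a homothety on `e` and trivial on the orthogonal of `f` -/
theorem detHom_of [FiniteDimensional K V] {W : Submodule K V} {g : F.iso} (hg : g ∈ stabW F.iso.subtype W) {e f : V}
    (he : e ∈ W) (hef : F.B e f ≠ 0) {b : Kˣ} (h1 : (g : V ≃ₗ[K] V) e = (b : K) • e)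
    (h2 : ∀ v ∈ W, F.B v f = 0 → (g : V ≃ₗ[K] V) v = v) : detHom F W ⟨g, hg⟩ = b := by
  apply Units.ext
  change ((LinearEquiv.det (res (F.iso.subtype g) W hg) : Kˣ) : K) = b
  rw [LinearEquiv.coe_det]
  have h3 : ((res (F.iso.subtype g) W hg : W ≃ₗ[K] W) : W →ₗ[K] W) =
      LinearMap.transvection ((((b : K) - 1) * (F.B e f)⁻¹) • (F.lf f).comp W.subtype) ⟨e, he⟩ := by
    apply LinearMap.ext
    intro w
    apply Subtype.ext
    rw [LinearMap.transvection.apply]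
    change (g : V ≃ₗ[K] V) (w : V) = (w : V) + ((((b : K) - 1) * (F.B e f)⁻¹) * F.B w f) • e
    have h4 := h2 ((w : V) - (F.B w f * (F.B e f)⁻¹) • e) (W.sub_mem w.2 (W.smul_mem _ he)) (by
      rw [F.B_sub_left, F.B_smul_left, mul_assoc, inv_mul_cancel₀ hef, mul_one, sub_self])
    rw [map_sub, map_smul, h1] at h4
    have h5 : (g : V ≃ₗ[K] V) (w : V) = (w : V) - (F.B w f * (F.B e f)⁻¹) • e +
        (F.B w f * (F.B e f)⁻¹) • (b : K) • e := by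
      rw [← h4]
      abel
    rw [h5]
    module
  rw [h3, LinearMap.transvection.det]
  change 1 + (((b : K) - 1) * (F.B e f)⁻¹) * F.B e f = b
  rw [mul_assoc, inv_mul_cancel₀ hef]
  ring

theorem detHom_one {W : Submodule K V} {g : F.iso} (hg : g ∈ stabW F.iso.subtype W)
    (h : ∀ v ∈ W, (g : V ≃ₗ[K] V) v = v) : detHom F W ⟨g, hg⟩ = 1 := by
  have h3 : resHom F.iso.subtype W ⟨g, hg⟩ = 1 := by
    apply LinearEquiv.ext
    intro w
    apply Subtype.ext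
    exact h w w.2
  unfold detHom
  rw [MonoidHom.comp_apply, h3, map_one]

theorem detHom_smul [FiniteDimensional K V] {W : Submodule K V} {g : F.iso} (hg : g ∈ stabW F.iso.subtype W)
    {a : K} (h : ∀ v ∈ W, (g : V ≃ₗ[K] V) v = a • v) : ((detHom F W ⟨g, hg⟩ : Kˣ) : K) = a ^ finrank K W := by
  change ((LinearEquiv.det (res (F.iso.subtype g) W hg) : Kˣ) : K) = _
  rw [LinearEquiv.coe_det]
  have h3 : ((res (F.iso.subtype g) W hg : W ≃ₗ[K] W) : W →ₗ[K] W) = a • LinearMap.id := by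
    apply LinearMap.ext
    intro w
    apply Subtype.ext
    exact h w w.2
  rw [h3, LinearMap.det_smul, LinearMap.det_id, mul_one]

/-- **the torus elements** -/
theorem exists_s [FiniteDimensional K V] {e f : V} (he : F.Sing e) (hf : F.Sing f) (hef : F.B e f ≠ 0)
    (hσ : ∀ a, F.σ a = a) (b : Kˣ) : ∃ g : F.iso, (g : V ≃ₗ[K] V) e = (b : K) • e ∧
      (g : V ≃ₗ[K] V) f = ((b⁻¹ : Kˣ) : K) • f ∧ ∀ v, F.B v e = 0 → F.B v f = 0 → (g : V ≃ₗ[K] V) v = v := by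
  have ts : ∀ {x : V}, F.Sing x → F.TS (K ∙ x) := by
    intro x hx
    refine ⟨fun w hw => ?_, fun w hw w' hw' => ?_⟩
    · obtain ⟨c, rfl⟩ := Submodule.mem_span_singleton.1 hw
      rw [F.Q_smul, hx.1, mul_zero]
    · obtain ⟨c, rfl⟩ := Submodule.mem_span_singleton.1 hw
      obtain ⟨c', rfl⟩ := Submodule.mem_span_singleton.1 hw'
      rw [F.B_smul_left, F.B_smul_right, hx.2, mul_zero, mul_zero]
  obtain ⟨g, h1, h2, h3, -⟩ := F.exists_levi (ts he) (ts hf) (fun w hw hw' => by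
      obtain ⟨c, rfl⟩ := Submodule.mem_span_singleton.1 hw
      have h4 := hw' f (Submodule.mem_span_singleton_self f)
      rw [F.B_smul_left] at h4
      rw [(mul_eq_zero.1 h4).resolve_right hef, zero_smul]) (fun w hw hw' => by
      obtain ⟨c, rfl⟩ := Submodule.mem_span_singleton.1 hw
      have h4 := hw' e (Submodule.mem_span_singleton_self e)
      rw [F.B_smul_right, hσ] at h4
      rw [(mul_eq_zero.1 h4).resolve_right hef, zero_smul]) (LinearEquiv.smulOfUnit b)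
  have hge : (g : V ≃ₗ[K] V) e = (b : K) • e := h1 ⟨e, Submodule.mem_span_singleton_self e⟩
  obtain ⟨c, hc⟩ := Submodule.mem_span_singleton.1 (h2 f (Submodule.mem_span_singleton_self f))
  refine ⟨g, hge, ?_, fun v hv hv' => h3 v (fun w hw => ?_) (fun w hw => ?_)⟩
  · have h4 := F.iso_B g e f
    rw [hge, ← hc, F.B_smul_left, F.B_smul_right, hσ, ← mul_assoc] at h4
    have h5 : (b : K) * c = 1 := by
      have h6 : ((b : K) * c - 1) * F.B e f = 0 := by rw [sub_mul, h4, one_mul, sub_self]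
      exact sub_eq_zero.1 ((mul_eq_zero.1 h6).resolve_right hef)
    rw [← hc, Units.val_inv_eq_inv_val, eq_inv_of_mul_eq_one_right h5]
  · obtain ⟨c, rfl⟩ := Submodule.mem_span_singleton.1 hw
    rw [F.B_smul_right, hv, mul_zero]
  · obtain ⟨c, rfl⟩ := Submodule.mem_span_singleton.1 hw
    rw [F.B_smul_right, hv', mul_zero]

variable {F}

/-- an invariant subspace of a torus element -/
theorem s_mem [FiniteDimensional K V] {W : Submodule K V} {g : F.iso} {e f : V} (he : e ∈ W) (hef : F.B e f ≠ 0)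
    {b : K} (h1 : (g : V ≃ₗ[K] V) e = b • e) (h2 : ∀ v ∈ W, F.B v f = 0 → (g : V ≃ₗ[K] V) v = v) :
    g ∈ stabW F.iso.subtype W := by
  refine map_eq_of_le F.iso.subtype fun w hw => ?_
  change (g : V ≃ₗ[K] V) w ∈ W
  have h4 := h2 (w - (F.B w f * (F.B e f)⁻¹) • e) (W.sub_mem hw (W.smul_mem _ he)) (by
      rw [F.B_sub_left, F.B_smul_left, mul_assoc, inv_mul_cancel₀ hef, mul_one, sub_self])
  rw [map_sub, map_smul, h1] at h4
  have h5 : (g : V ≃ₗ[K] V) w = w - (F.B w f * (F.B e f)⁻¹) • e + (F.B w f * (F.B e f)⁻¹) • b • e := by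
    rw [← h4]
    abel
  rw [h5]
  exact W.add_mem (W.sub_mem hw (W.smul_mem _ he)) (W.smul_mem _ (W.smul_mem _ he))

theorem mem_stab_of_fix [FiniteDimensional K V] {W : Submodule K V} {g : F.iso}
    (h2 : ∀ v ∈ W, (g : V ≃ₗ[K] V) v = v) : g ∈ stabW F.iso.subtype W :=
  map_eq_of_le F.iso.subtype fun w hw => by
    change (g : V ≃ₗ[K] V) w ∈ W
    rw [h2 w hw]
    exact hw

/-- a pair `e, f` adapted to two flags -/
theorem exists_ef {W W' : Submodule K V} (hne : ¬ W ≤ F.perp W') {u u' : V} (hu : u ∈ W) (hu' : u' ∈ W') :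
    ∃ e f, e ∈ W ∧ f ∈ W' ∧ F.B e f ≠ 0 ∧ (e = u ∨ F.B u f = 0) ∧ (f = u' ∨ F.B u' e = 0) := by
  by_cases h1 : F.B u u' = 0
  · by_cases h2 : ∃ f ∈ W', F.B u f ≠ 0
    · obtain ⟨f, hf, hf'⟩ := h2
      exact ⟨u, f, hu, hf, hf', Or.inl rfl, Or.inr (F.B_eq_zero h1)⟩
    · push Not at h2
      by_cases h3 : ∃ e ∈ W, F.B e u' ≠ 0
      · obtain ⟨e, he, he'⟩ := h3
        exact ⟨e, u', he, hu', he', Or.inr h1, Or.inl rfl⟩
      · push Not at h3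
        obtain ⟨e, he, he'⟩ := SetLike.not_le_iff_exists.1 hne
        rw [F.mem_perp] at he'
        push Not at he'
        obtain ⟨f, hf, hf'⟩ := he'
        exact ⟨e, f, he, hf, hf', Or.inr (h2 f hf), Or.inr (F.B_eq_zero (h3 e he))⟩
  · exact ⟨u, u', hu, hu', h1, Or.inl rfl, Or.inl rfl⟩

theorem mul_ap (g g' : F.iso) (v : V) : ((g * g' : F.iso) : V ≃ₗ[K] V) v = (g : V ≃ₗ[K] V) ((g' : V ≃ₗ[K] V) v) := rfl

theorem inv_ap (g : F.iso) (v : V) : ((g⁻¹ : F.iso) : V ≃ₗ[K] V) ((g : V ≃ₗ[K] V) v) = v :=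
  (g : V ≃ₗ[K] V).symm_apply_apply v

theorem ap_inv (g : F.iso) (v : V) : (g : V ≃ₗ[K] V) (((g⁻¹ : F.iso) : V ≃ₗ[K] V) v) = v :=
  (g : V ≃ₗ[K] V).apply_symm_apply v

theorem B_inv' (g : F.iso) (u v : V) : F.B u (((g⁻¹ : F.iso) : V ≃ₗ[K] V) v) = F.B ((g : V ≃ₗ[K] V) u) v := by
  rw [← F.iso_B g, ap_inv]

theorem inv_mul_mul_ap (x t : F.iso) (v : V) : ((x⁻¹ * t * x : F.iso) : V ≃ₗ[K] V) v =
    ((x⁻¹ : F.iso) : V ≃ₗ[K] V) ((t : V ≃ₗ[K] V) ((x : V ≃ₗ[K] V) v)) := rfl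

/-- two flags with different `W` -/
theorem sep_one [FiniteDimensional K V] (hσ : ∀ a, F.σ a = a) (hS : ∀ v, F.Sing v) {W : Submodule K V}
    (hW : F.TS W) (hWp : F.perp W = W) {u : V} (hu : u ∈ W) (hu0 : u ≠ 0) {x : F.iso}
    (hx : x ∉ stabW F.iso.subtype W) (b : Kˣ) :
    ∃ (t : F.iso) (h1 : t ∈ stabW F.iso.subtype W) (h2 : t ∈ stabW F.iso.subtype (K ∙ u))
      (h3 : x⁻¹ * t * x ∈ stabW F.iso.subtype W) (h4 : x⁻¹ * t * x ∈ stabW F.iso.subtype (K ∙ u)),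
      detHom F W ⟨t, h1⟩ = b ∧ detHom F W ⟨_, h3⟩ = b⁻¹ ∧
      (detHom F (K ∙ u) ⟨t, h2⟩ = b ∨ detHom F (K ∙ u) ⟨t, h2⟩ = 1) ∧
      (detHom F (K ∙ u) ⟨_, h4⟩ = b⁻¹ ∨ detHom F (K ∙ u) ⟨_, h4⟩ = 1) := by
  obtain ⟨W', hW'⟩ : ∃ W', W' = W.map (F.iso.subtype x : V →ₗ[K] V) := ⟨_, rfl⟩
  have hW'x : ∀ w ∈ W, (x : V ≃ₗ[K] V) w ∈ W' := fun w hw => hW' ▸ ⟨w, hw, rfl⟩
  have hW'i : ∀ w ∈ W', ((x⁻¹ : F.iso) : V ≃ₗ[K] V) w ∈ W := by
    intro w hw
    rw [hW'] at hw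
    obtain ⟨w, hw, rfl⟩ := hw
    change ((x⁻¹ : F.iso) : V ≃ₗ[K] V) ((x : V ≃ₗ[K] V) w) ∈ W
    rw [inv_ap]
    exact hw
  have hTS' : F.TS W' := hW' ▸ hW.map x
  have hne : ¬ W ≤ F.perp W' := by
    intro hle
    apply hx
    have h1 : W' ≤ W := by
      rw [← hWp]
      intro w hw v hv
      exact F.B_eq_zero (hle hv w hw)
    refine map_eq_of_le F.iso.subtype fun w hw => h1 (hW'x w hw)
  obtain ⟨e, f, he, hf, hef, ho1, ho2⟩ := exists_ef hne hu (hW'x u hu)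
  have hfe : F.B f e ≠ 0 := fun h => hef (F.B_eq_zero h)
  obtain ⟨t, ht1, ht2, ht3⟩ := exists_s F (hS e) (hS f) hef hσ b
  have hfix : ∀ v ∈ W, F.B v f = 0 → (t : V ≃ₗ[K] V) v = v := fun v hv hv' => ht3 v (hW.2 v hv e he) hv'
  have hfix' : ∀ v ∈ W', F.B v e = 0 → (t : V ≃ₗ[K] V) v = v := fun v hv hv' => ht3 v hv' (hTS'.2 v hv f hf)
  -- the conjugate
  obtain ⟨f', hf'⟩ : ∃ f', f' = ((x⁻¹ : F.iso) : V ≃ₗ[K] V) f := ⟨_, rfl⟩
  obtain ⟨e', he'⟩ : ∃ e', e' = ((x⁻¹ : F.iso) : V ≃ₗ[K] V) e := ⟨_, rfl⟩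
  have hf'W : f' ∈ W := hf' ▸ hW'i f hf
  have hfe' : F.B f' e' ≠ 0 := by rw [hf', he', F.iso_B]; exact hfe
  have hc1 : ((x⁻¹ * t * x : F.iso) : V ≃ₗ[K] V) f' = ((b⁻¹ : Kˣ) : K) • f' := by
    rw [inv_mul_mul_ap, hf', ap_inv, ht2, map_smul]
  have hcfix : ∀ v ∈ W, F.B v e' = 0 → ((x⁻¹ * t * x : F.iso) : V ≃ₗ[K] V) v = v := by
    intro v hv hv'
    rw [he', B_inv'] at hv'
    rw [inv_mul_mul_ap, hfix' _ (hW'x v hv) hv', inv_ap]
  have m1 : t ∈ stabW F.iso.subtype W := s_mem he hef ht1 hfix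
  have m3 : x⁻¹ * t * x ∈ stabW F.iso.subtype W := s_mem hf'W hfe' hc1 hcfix
  have hul : u ∈ (K ∙ u) := Submodule.mem_span_singleton_self u
  have hle : (K ∙ u) ≤ W := (Submodule.span_singleton_le_iff_mem _ _).2 hu
  have d2 : ∃ m2 : t ∈ stabW F.iso.subtype (K ∙ u),
      detHom F (K ∙ u) ⟨t, m2⟩ = b ∨ detHom F (K ∙ u) ⟨t, m2⟩ = 1 := by
    rcases ho1 with rfl | h
    · exact ⟨s_mem hul hef ht1 fun v hv hv' => hfix v (hle hv) hv',
        Or.inl (detHom_of F _ hul hef ht1 fun v hv hv' => hfix v (hle hv) hv')⟩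
    · have h5 : ∀ v ∈ (K ∙ u), (t : V ≃ₗ[K] V) v = v := by
        intro v hv
        obtain ⟨c, rfl⟩ := Submodule.mem_span_singleton.1 hv
        refine hfix _ (hle hv) ?_
        rw [F.B_smul_left, h, mul_zero]
      exact ⟨mem_stab_of_fix h5, Or.inr (detHom_one F _ h5)⟩
  have d4 : ∃ m4 : x⁻¹ * t * x ∈ stabW F.iso.subtype (K ∙ u),
      detHom F (K ∙ u) ⟨_, m4⟩ = b⁻¹ ∨ detHom F (K ∙ u) ⟨_, m4⟩ = 1 := by
    rcases ho2 with h | h
    · have hfu : f' = u := by rw [hf', h, inv_ap]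
      rw [hfu] at hfe' hc1
      exact ⟨s_mem hul hfe' hc1 fun v hv hv' => hcfix v (hle hv) hv',
        Or.inl (detHom_of F _ hul hfe' hc1 fun v hv hv' => hcfix v (hle hv) hv')⟩
    · have h5 : ∀ v ∈ (K ∙ u), ((x⁻¹ * t * x : F.iso) : V ≃ₗ[K] V) v = v := by
        intro v hv
        obtain ⟨c, rfl⟩ := Submodule.mem_span_singleton.1 hv
        refine hcfix _ (hle hv) ?_
        rw [F.B_smul_left, he', B_inv', h, mul_zero]
      exact ⟨mem_stab_of_fix h5, Or.inr (detHom_one F _ h5)⟩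
  obtain ⟨m2, d2⟩ := d2
  obtain ⟨m4, d4⟩ := d4
  exact ⟨t, m1, m2, m3, m4, detHom_of F _ he hef ht1 hfix, detHom_of F _ hf'W hfe' hc1 hcfix, d2, d4⟩

/-- two flags with the same `W` -/
theorem sep_two [FiniteDimensional K V] (hσ : ∀ a, F.σ a = a) (hS : ∀ v, F.Sing v) {W : Submodule K V}
    (hW : F.TS W) {u : V} (hu : u ∈ W) (hu0 : u ≠ 0) {x : F.iso}
    (hx : x ∈ stabW F.iso.subtype W) (hxu : x ∉ stabW F.iso.subtype (K ∙ u)) (b : Kˣ) :
    ∃ (t : F.iso) (h1 : t ∈ stabW F.iso.subtype W) (h2 : t ∈ stabW F.iso.subtype (K ∙ u))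
      (h3 : x⁻¹ * t * x ∈ stabW F.iso.subtype W) (h4 : x⁻¹ * t * x ∈ stabW F.iso.subtype (K ∙ u)),
      detHom F W ⟨t, h1⟩ = b ∧ detHom F W ⟨_, h3⟩ = b ∧
      detHom F (K ∙ u) ⟨t, h2⟩ = b ∧ detHom F (K ∙ u) ⟨_, h4⟩ = 1 := by
  classical
  obtain ⟨u', hu'⟩ : ∃ u', u' = (x : V ≃ₗ[K] V) u := ⟨_, rfl⟩
  have hxW : ∀ w ∈ W, (x : V ≃ₗ[K] V) w ∈ W := by
    intro w hw
    rw [mem_stabW] at hx
    rw [← hx]
    exact ⟨w, hw, rfl⟩
  have hxW' : ∀ w ∈ W, ((x⁻¹ : F.iso) : V ≃ₗ[K] V) w ∈ W := by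
    intro w hw
    have hx' := inv_mem hx
    rw [mem_stabW] at hx'
    rw [← hx']
    exact ⟨w, hw, rfl⟩
  have hu'W : u' ∈ W := hu' ▸ hxW u hu
  have hns : u ∉ (K ∙ u') := by
    intro h
    apply hxu
    obtain ⟨c, hc⟩ := Submodule.mem_span_singleton.1 h
    have hc0 : c ≠ 0 := by
      rintro rfl
      rw [zero_smul] at hc
      exact hu0 hc.symm
    refine map_eq_of_le F.iso.subtype fun w hw => ?_
    obtain ⟨d, rfl⟩ := Submodule.mem_span_singleton.1 hw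
    change (x : V ≃ₗ[K] V) (d • u) ∈ (K ∙ u)
    rw [map_smul, ← hu', Submodule.mem_span_singleton]
    refine ⟨d * c⁻¹, ?_⟩
    rw [← hc, smul_smul, mul_assoc, inv_mul_cancel₀ hc0, mul_one]
  -- a vector orthogonal to `u'`, not to `u`
  obtain ⟨f, hf, hf'⟩ : ∃ f, F.B u f ≠ 0 ∧ F.B u' f = 0 := by
    obtain ⟨φ, hφ, hφ'⟩ := Submodule.exists_dual_map_eq_bot_of_notMem hns inferInstance
    obtain ⟨f, hf⟩ := F.exists_dual φ
    refine ⟨f, by rw [← hf]; exact hφ, ?_⟩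
    rw [← hf]
    have : φ u' ∈ (K ∙ u').map φ := ⟨u', Submodule.mem_span_singleton_self u', rfl⟩
    rw [hφ'] at this
    exact (Submodule.mem_bot K).1 this
  obtain ⟨t, ht1, ht2, ht3⟩ := exists_s F (hS u) (hS f) hf hσ b
  have hfix : ∀ v ∈ W, F.B v f = 0 → (t : V ≃ₗ[K] V) v = v := fun v hv hv' => ht3 v (hW.2 v hv u hu) hv'
  have hul : u ∈ (K ∙ u) := Submodule.mem_span_singleton_self u
  have hle : (K ∙ u) ≤ W := (Submodule.span_singleton_le_iff_mem _ _).2 hu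
  have m1 : t ∈ stabW F.iso.subtype W := s_mem hu hf ht1 hfix
  have m2 : t ∈ stabW F.iso.subtype (K ∙ u) := s_mem hul hf ht1 fun v hv hv' => hfix v (hle hv) hv'
  have m3 : x⁻¹ * t * x ∈ stabW F.iso.subtype W := mul_mem (mul_mem (inv_mem hx) m1) hx
  have h5 : ∀ v ∈ (K ∙ u), ((x⁻¹ * t * x : F.iso) : V ≃ₗ[K] V) v = v := by
    intro v hv
    obtain ⟨c, rfl⟩ := Submodule.mem_span_singleton.1 hv
    rw [map_smul, inv_mul_mul_ap, ← hu', hfix u' hu'W hf', hu', inv_ap]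
  have m4 : x⁻¹ * t * x ∈ stabW F.iso.subtype (K ∙ u) := mem_stab_of_fix h5
  refine ⟨t, m1, m2, m3, m4, detHom_of F _ hu hf ht1 hfix, ?_,
    detHom_of F _ hul hf ht1 fun v hv hv' => hfix v (hle hv) hv', detHom_one F _ h5⟩
  obtain ⟨y, hy⟩ : ∃ y, y = ((x⁻¹ : F.iso) : V ≃ₗ[K] V) u := ⟨_, rfl⟩
  obtain ⟨f', hf''⟩ : ∃ f', f' = ((x⁻¹ : F.iso) : V ≃ₗ[K] V) f := ⟨_, rfl⟩
  refine detHom_of F m3 (e := y) (f := f') (hy ▸ hxW' u hu) ?_ ?_ ?_
  · rw [hy, hf'', F.iso_B]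
    exact hf
  · rw [inv_mul_mul_ap, hy, ap_inv, ht1, map_smul]
  · intro v hv hv'
    rw [hf'', B_inv'] at hv'
    rw [inv_mul_mul_ap, hfix _ (hxW v hv) hv', inv_ap]

end geom

end Cfsg.Agent.H272.Eight
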