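import Cfsg.Agent.H272.Eight.Count
import Cfsg.Agent.H664.Eight.Base
import Cfsg.Agent.S0245
import Cfsg.Agent.S0246

/-!
# Degrees of `PSp₄(q)` (helper272, for S4899)
-/

set_option autoImplicit false
set_option linter.unusedSectionVars false

open Cfsg

namespace Cfsg.Agent.H272.Eight

open Module Cfsg.Agent.H477.HC Cfsg.Agent.H53.HC Cfsg.Agent.Characters

universe u v

/-- membership in the set of the degrees -/
theorem mem_cd {S : Type u} [Group S] [Finite S] {χ : S → ℂ} (hχ : IsIrrCharacter S χ) {d : ℕ} (h : χ 1 = (d : ℂ)) :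
    d ∈ charDegrees S :=
  ⟨⟨χ, hχ⟩, Blocks.Basic.charDegree_of_eq h⟩

section

variable (K : Type u) [Field K] [Finite K]

theorem sing_all {m : ℕ} (v : Fin m ⊕ Fin m → K) : (CForm.spF K m).Sing v :=
  ⟨rfl, (CForm.spF K m).alt v rfl⟩

/-- a maximal totally singular subspace is its own orthogonal -/
theorem perp_eq {m : ℕ} {W : Submodule K (Fin m ⊕ Fin m → K)} (hW : W ∈ (CForm.spF K m).Om m) :
    (CForm.spF K m).perp W = W := by
  classical
  symm
  apply Submodule.eq_of_le_of_finrank_eq hW.1.le_perp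
  let b := finBasisOfFinrankEq K W hW.2
  have h1 : LinearIndependent K (fun i => (b i : Fin m ⊕ Fin m → K)) :=
    b.linearIndependent.map' W.subtype (Submodule.ker_subtype _)
  have h2 := Cfsg.Agent.H362.Dl.finrank_perp_span (CForm.spF K m) h1
  have h3 : Submodule.span K (Set.range fun i => (b i : Fin m ⊕ Fin m → K)) = W := by
    have h4 : (Set.range fun i => (b i : Fin m ⊕ Fin m → K)) = W.subtype '' Set.range b := by
      rw [← Set.range_comp]
      rfl
    rw [h4, ← Submodule.map_span, b.span_eq, Submodule.map_subtype_top]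
  rw [h3, finrank_fintype_fun_eq_card, Fintype.card_sum, Fintype.card_fin] at h2
  rw [hW.2]
  omega

/-- the Levi subgroup -/
theorem exists_levi' {V : Type v} [AddCommGroup V] [Module K V] [FiniteDimensional K V] (F : CForm K V) {k : ℕ}
    {W : Submodule K V} (hW : W ∈ F.Om k) (a : W ≃ₗ[K] W) : ∃ g : F.iso, ∀ w : W, (g : V ≃ₗ[K] V) w = a w := by
  obtain ⟨W', hW', h0⟩ := F.exists_opp hW
  have h0' := CForm.opp_symm (F := F) hW.2 hW'.2 h0
  obtain ⟨g, hg, -⟩ := F.exists_levi hW.1 hW'.1 (fun w hw hw' => by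
      have : w ∈ W ⊓ F.perp W' := ⟨hw, hw'⟩
      rw [h0] at this
      exact (Submodule.mem_bot K).1 this)
    (fun w hw hw' => by
      have : w ∈ W' ⊓ F.perp W := ⟨hw, fun w' hw'' => F.B_eq_zero (hw' w' hw'')⟩
      rw [h0'] at this
      exact (Submodule.mem_bot K).1 this) a
  exact ⟨g, hg⟩

/-- the index of a parabolic subgroup -/
theorem index_stab {V : Type v} [AddCommGroup V] [Module K V] [FiniteDimensional K V] (F : CForm K V) {k : ℕ}
    {W : Submodule K V} (hW : W ∈ F.Om k) : (stabW F.iso.subtype W).index = Nat.card (F.Om k) := by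
  let _ := act F
  have h1 : stabW F.iso.subtype W = MulAction.stabilizer F.iso W := by
    ext g
    rw [mem_stabW, MulAction.mem_stabilizer_iff]
    rfl
  have h2 : MulAction.orbit F.iso W = F.Om k := by
    ext W'
    constructor
    · rintro ⟨g, rfl⟩
      exact F.Om_map g W hW
    · intro hW'
      obtain ⟨g, hg⟩ := F.trans_Om hW hW'
      exact ⟨g, hg⟩
  rw [h1, MulAction.index_stabilizer, h2, Nat.card_coe_set_eq]

theorem center_sp {m : ℕ} {z : (CForm.spF K m).iso} (hz : z ∈ Subgroup.center (CForm.spF K m).iso) :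
    ∃ a : K, a ^ 2 = 1 ∧ ∀ v, (z : (Fin m ⊕ Fin m → K) ≃ₗ[K] (Fin m ⊕ Fin m → K)) v = a • v := by
  obtain ⟨A, rfl⟩ := (isoSp m K).surjective z
  have hA : A ∈ Subgroup.center (Matrix.symplecticGroup (Fin m) K) := by
    rw [Subgroup.mem_center_iff] at hz ⊢
    intro g
    apply (isoSp m K).injective
    rw [map_mul, map_mul]
    exact hz _
  rcases Cfsg.Agent.ClassicalGeometry.SympInvolutions.center_eq hA with h | h
  · refine ⟨1, one_pow 2, fun v => ?_⟩
    rw [isoSp_apply, h, Matrix.one_mulVec, one_smul]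
  · refine ⟨-1, neg_one_sq, fun v => ?_⟩
    rw [isoSp_apply, h, Matrix.neg_mulVec, Matrix.one_mulVec, neg_one_smul]

/-- from the isometry group to `PSp` -/
theorem psp_of_iso {m : ℕ} {χ : (CForm.spF K m).iso → ℂ} (hχ : IsIrrCharacter _ χ)
    (hz : ∀ z ∈ Subgroup.center (CForm.spF K m).iso, χ z = χ 1) {d : ℕ} (hd : χ 1 = (d : ℂ)) :
    d ∈ charDegrees (PSp m K) := by
  have hfin : Finite (Matrix.symplecticGroup (Fin m) K) := inferInstance
  have hfin' : Finite (PSp m K) := by unfold PSp; infer_instance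
  have hχ' : IsIrrCharacter _ (χ ∘ (isoSp m K).toMonoidHom) :=
    Core.isIrr_comp (isoSp m K).toMonoidHom (isoSp m K).surjective hχ
  obtain ⟨η, hη, hη'⟩ := exists_quot (Subgroup.center (Matrix.symplecticGroup (Fin m) K)) hχ' (fun z hz' => by
    change χ (isoSp m K z) = χ (isoSp m K 1)
    rw [map_one]
    refine hz _ ?_
    rw [Subgroup.mem_center_iff] at hz' ⊢
    intro g
    obtain ⟨A, rfl⟩ := (isoSp m K).surjective g
    rw [← map_mul, ← map_mul, hz'])
  refine mem_cd (S := PSp m K) hη ?_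
  rw [← hd]
  have := hη' 1
  rw [QuotientGroup.mk_one] at this
  change η 1 = χ 1
  rw [this]
  change χ (isoSp m K 1) = χ 1
  rw [map_one]

theorem card_Om_two : Nat.card ((CForm.spF K 2).Om 2) = (Nat.card K + 1) * (Nat.card K ^ 2 + 1) := by
  have hq : 1 < Nat.card K := Finite.one_lt_card
  have h1 := Cfsg.Agent.H362.Dl.card_Om_sp K (m := 2) (k := 2) le_rfl
  obtain ⟨N, hN⟩ : ∃ N, N = Nat.card ((CForm.spF K 2).Om 2) := ⟨_, rfl⟩
  rw [← hN] at h1 ⊢
  obtain ⟨c, hc⟩ : ∃ c, Nat.card K = c + 2 := ⟨Nat.card K - 2, by omega⟩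
  rw [hc] at h1 ⊢
  rw [Finset.prod_range_succ, Finset.prod_range_one, Finset.prod_range_succ, Finset.prod_range_one] at h1
  have e1 : (c + 2) ^ (0 + 1) - 1 = c + 1 := by rw [zero_add, pow_one]; omega
  have e2 : (c + 2) ^ (1 + 1) - 1 = (c + 1) * (c + 3) := by
    have : (c + 2) ^ (1 + 1) = (c + 1) * (c + 3) + 1 := by ring
    omega
  have e3 : (c + 2) ^ (2 * (2 - 0)) - 1 = (c + 1) * (c + 3) * ((c + 2) ^ 2 + 1) := by
    have : (c + 2) ^ (2 * (2 - 0)) = (c + 1) * (c + 3) * ((c + 2) ^ 2 + 1) + 1 := by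
      norm_num
      ring
    omega
  rw [e1, e2, e3] at h1
  have h5 : 0 < (c + 1) * ((c + 1) * (c + 3)) := by positivity
  apply Nat.eq_of_mul_eq_mul_right h5
  rw [h1]
  ring

end

end Cfsg.Agent.H272.Eight
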