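import Cfsg.Agent.H115.HC.TwoAbs

/-!
# Constituents of characters induced by linear characters, with their kernels (helper272, for S4899)

`exists_two` : the version of `H115.HC.Two.exists_two` for a central subgroup `Z` in the kernel of `f`;
`exists_one` : the irreducible induced character; `card_of_trans` : the hypotheses on the orders from a doubly
transitive action.
-/

set_option autoImplicit false

open scoped ComplexConjugate
open Cfsg

namespace Cfsg.Agent.H272.Eight

open Cfsg.Agent.OddOrderCharacters.Clifford Cfsg.Agent.CharactersDeep.MackeyLinear Cfsg.Agent.Characters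
  Cfsg.Agent.Characters.Core Cfsg.Agent.H115.HC.Two

universe u v

section

variable {G : Type u} [Group G]

/-- the value of an induced linear character at a central element of the kernel -/
theorem indFun_central [Fintype G] (B : Subgroup G) (f : B →* ℂˣ) {z : G} (hz : z ∈ Subgroup.center G) (hzB : z ∈ B)
    (hf : f ⟨z, hzB⟩ = 1) : indFun B (fun t => (f t : ℂ)) z = indFun B (fun t => (f t : ℂ)) 1 := by
  classical
  rw [Core.indFun_apply, Core.indFun_apply]
  congr 1
  refine Finset.sum_congr rfl fun x _ => ?_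
  have e1 : x⁻¹ * z * x = z := by
    rw [mul_assoc, ← Subgroup.mem_center_iff.1 hz x, ← mul_assoc, inv_mul_cancel, one_mul]
  have e2 : x⁻¹ * 1 * x = 1 := by group
  rw [e1, e2, ext_apply_mem B _ _ hzB, ext_apply_mem B _ _ (one_mem B), hf]
  have : f ⟨1, one_mem B⟩ = 1 := map_one f
  rw [this]

/-- **An irreducible character of degree `|G : B|`.** -/
theorem exists_one [Fintype G] (B : Subgroup G) (f : B →* ℂˣ)
    (h1 : ∀ x : G, x ∉ B → ∃ (t : B) (hx : x⁻¹ * t * x ∈ B), f t ≠ f ⟨x⁻¹ * t * x, hx⟩)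
    (Z : Subgroup G) (hZ : Z ≤ Subgroup.center G) (hZB : Z ≤ B) (hf : ∀ z (hz : z ∈ Z), f ⟨z, hZB hz⟩ = 1) :
    ∃ χ : G → ℂ, IsIrrCharacter G χ ∧ χ 1 = (B.index : ℂ) ∧ ∀ z ∈ Z, χ z = χ 1 := by
  refine ⟨_, isIrrCharacter_indFun B f h1, ?_, fun z hz => indFun_central B f (hZ hz) (hZB hz) (hf z hz)⟩
  rw [Cfsg.Agent.H53.HC.indFun_one, map_one, Units.val_one, mul_one]

/-- **Irreducible characters of the degrees `|G : P|` and `|G : P| q`.** -/
theorem exists_two [Fintype G] (B P : Subgroup G) (hBP : B ≤ P) (f : P →* ℂˣ)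
    (h1 : ∀ x : G, x ∉ P → ∃ (t : B) (hx : x⁻¹ * t * x ∈ B), f ⟨t, hBP t.2⟩ ≠ f ⟨x⁻¹ * t * x, hBP hx⟩)
    {q : ℕ} (hq : 0 < q) (h2 : ∀ x ∈ P, x ∉ B → q * Nat.card (dsub B x) = Nat.card B)
    (h3 : Nat.card P = (q + 1) * Nat.card B)
    (Z : Subgroup G) (hZ : Z ≤ Subgroup.center G) (hZB : Z ≤ B) (hf : ∀ z (hz : z ∈ Z), f ⟨z, hBP (hZB hz)⟩ = 1) :
    ∃ χ₁ χ₂ : G → ℂ, IsIrrCharacter G χ₁ ∧ IsIrrCharacter G χ₂ ∧ χ₁ 1 = (P.index : ℂ) ∧
      χ₂ 1 = ((P.index * q : ℕ) : ℂ) ∧ (∀ z ∈ Z, χ₁ z = χ₁ 1) ∧ ∀ z ∈ Z, χ₂ z = χ₂ 1 := by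
  classical
  have : Fintype B := Fintype.ofFinite B
  have : Fintype P := Fintype.ofFinite P
  have hn := norm_two B P hBP f h1 hq h2 h3
  set θ : B → ℂ := fun t => (f ⟨t, hBP t.2⟩ : ℂ) with hθ
  have hθi : IsIrrCharacter B θ := Linear.isIrrCharacter_hom (f.comp (Subgroup.inclusion hBP))
  have hfi : IsIrrCharacter P (fun t => (f t : ℂ)) := Linear.isIrrCharacter_hom f
  have hker1 : ∀ z ∈ Z, indFun P (fun t => (f t : ℂ)) z = indFun P (fun t => (f t : ℂ)) 1 := fun z hz =>
    indFun_central P f (hZ hz) (hBP (hZB hz)) (hf z hz)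
  have hker2 : ∀ z ∈ Z, indFun B θ z = indFun B θ 1 := fun z hz =>
    indFun_central B (f.comp (Subgroup.inclusion hBP)) (hZ hz) (hZB hz) (hf z hz)
  set χ₁ := indFun P (fun t => (f t : ℂ)) with hχ₁
  have hi1 : IsIrrCharacter G χ₁ := isIrrCharacter_indFun P f fun x hx => by
    obtain ⟨t, ht, hne⟩ := h1 x hx
    exact ⟨⟨t, hBP t.2⟩, hBP ht, hne⟩
  set Θ := indFun B θ with hΘ
  have hΘc : IsCharacter G Θ := Cfsg.Agent.S0148.result B θ (isIrr_isCharacter hθi)
  have hres : IsCharacter P (fun t : P => χ₁ t) := isCharacter_comp P.subtype (isIrr_isCharacter hi1)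
  have hm1 : classInner (fun t : P => χ₁ t) (fun t => (f t : ℂ)) = 1 := by
    have e1 := classInner_indFun P (fun t => (f t : ℂ)) χ₁ (isIrr_isClassFunction hi1)
    rw [← hχ₁, classInner_irr_self hi1] at e1
    have e2 := classInner_conj_symm (fun t => (f t : ℂ)) (fun t : P => χ₁ t)
    rw [← e1, map_one] at e2
    exact e2.symm
  have hsub := isCharacter_sub_irr hres hfi (by rw [hm1]; exact one_ne_zero)
  have hsubB : IsCharacter B (fun t : B => ((fun t : P => χ₁ t) - (fun t => (f t : ℂ))) (Subgroup.inclusion hBP t)) :=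
    isCharacter_comp (Subgroup.inclusion hBP) hsub
  obtain ⟨m, hm⟩ := classInner_isNat (isIrr_isCharacter hθi) hsubB
  have hc : classInner Θ χ₁ = 1 + (m : ℂ) := by
    rw [hΘ, classInner_indFun B θ χ₁ (isIrr_isClassFunction hi1)]
    have e1 : (fun t : B => χ₁ t) =
        θ + (fun t : B => ((fun t : P => χ₁ t) - (fun t => (f t : ℂ))) (Subgroup.inclusion hBP t)) := by
      funext t
      change χ₁ t = θ t + (χ₁ t - (f ⟨t, hBP t.2⟩ : ℂ))
      rw [hθ]
      ring
    rw [e1, classInner_add_right, classInner_irr_self hθi, hm]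
  have hcc : classInner χ₁ Θ = 1 + (m : ℂ) := by
    rw [← classInner_conj_symm, hc, map_add, map_one, Complex.conj_natCast]
  have hDc : IsCharacter G (Θ - χ₁) := isCharacter_sub_irr hΘc hi1 (by
    rw [hc]
    exact_mod_cast (show (1 + m) ≠ 0 by omega))
  have hD : classInner (Θ - χ₁) (Θ - χ₁) = 1 - 2 * (m : ℂ) := by
    rw [classInner_sub_left, classInner_sub_right, classInner_sub_right, hn, hc, hcc, classInner_irr_self hi1]
    ring
  obtain ⟨k, hk⟩ := classInner_isNat hDc hDc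
  have hm0 : m = 0 := by
    rw [hk] at hD
    have h4 : ((k + 2 * m : ℕ) : ℂ) = ((1 : ℕ) : ℂ) := by
      push_cast
      linear_combination hD
    have h5 : k + 2 * m = 1 := by exact_mod_cast h4
    omega
  have hi2 : IsIrrCharacter G (Θ - χ₁) := by
    rw [isIrr_iff_classInner_self hDc, hD, hm0, Nat.cast_zero, mul_zero, sub_zero]
  have hBi : B.index = P.index * (q + 1) := by
    have h4 := Subgroup.relIndex_mul_index hBP
    have h5 : B.relIndex P = q + 1 := by
      have h6 := Subgroup.card_mul_index (B.subgroupOf P)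
      rw [h3, Nat.card_congr (Subgroup.subgroupOfEquivOfLe hBP).toEquiv, mul_comm (q + 1)] at h6
      exact Nat.eq_of_mul_eq_mul_left Nat.card_pos h6
    rw [← h4, h5, mul_comm]
  have hv1 : χ₁ 1 = (P.index : ℂ) := by
    rw [hχ₁, Cfsg.Agent.H53.HC.indFun_one, map_one, Units.val_one, mul_one]
  have hv2 : Θ 1 = ((P.index * (q + 1) : ℕ) : ℂ) := by
    have e2 : θ 1 = 1 := by
      change (f ⟨(1 : B), _⟩ : ℂ) = 1
      have : (⟨((1 : B) : G), hBP (1 : B).2⟩ : P) = 1 := rfl
      rw [this, map_one, Units.val_one]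
    rw [hΘ, Cfsg.Agent.H53.HC.indFun_one, e2, mul_one, hBi]
  refine ⟨χ₁, Θ - χ₁, hi1, hi2, hv1, ?_, hker1, fun z hz => ?_⟩
  · rw [Pi.sub_apply, hv1, hv2]
    push_cast
    ring
  · rw [Pi.sub_apply, Pi.sub_apply, hker1 z hz, hker2 z hz]

end

section act

variable {G : Type u} [Group G] [Finite G] {X : Type v} [MulAction G X]

omit [Finite G] in
theorem orbit_stab (H : Subgroup G) (x : X) :
    Nat.card (MulAction.orbit H x) * Nat.card (MulAction.stabilizer H x) = Nat.card H := by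
  rw [← Nat.card_prod]
  exact Nat.card_congr (MulAction.orbitProdStabilizerEquivGroup H x)

omit [Finite G] in
/-- the orders of the stabilisers in a doubly transitive action of `P` on `S` -/
theorem card_of_trans (P B : Subgroup G) (S : Set X) (l : X) {q : ℕ} (hS : Nat.card S = q + 1) (hl : l ∈ S)
    (hinv : ∀ g ∈ P, ∀ m ∈ S, g • m ∈ S) (hB : ∀ g, g ∈ B ↔ g ∈ P ∧ g • l = l)
    (h1 : ∀ m ∈ S, ∃ g ∈ P, g • l = m) (h2 : ∀ m ∈ S, ∀ m' ∈ S, m ≠ l → m' ≠ l → ∃ g ∈ B, g • m = m') :
    Nat.card P = (q + 1) * Nat.card B ∧ ∀ x ∈ P, x ∉ B → q * Nat.card (dsub B x) = Nat.card B := by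
  classical
  have hBP : B ≤ P := fun g hg => ((hB g).1 hg).1
  have hfin : Finite S := by
    apply Nat.finite_of_card_ne_zero
    rw [hS]
    omega
  constructor
  · have e := orbit_stab P l
    have e1 : Nat.card (MulAction.orbit P l) = q + 1 := by
      rw [← hS]
      refine Nat.card_congr (Equiv.setCongr ?_)
      ext m
      constructor
      · rintro ⟨g, rfl⟩
        exact hinv g g.2 l hl
      · intro hm
        obtain ⟨g, hg, rfl⟩ := h1 m hm
        exact ⟨⟨g, hg⟩, rfl⟩
    have e2 : Nat.card (MulAction.stabilizer P l) = Nat.card B := by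
      refine Nat.card_congr ⟨fun g => ⟨g.1.1, (hB _).2 ⟨g.1.2, g.2⟩⟩, fun g => ⟨⟨g.1, hBP g.2⟩, ((hB _).1 g.2).2⟩,
        fun g => rfl, fun g => rfl⟩
    rw [← e, e1, e2]
  · intro x hx hxB
    have hxl : x • l ≠ l := fun h => hxB ((hB x).2 ⟨hx, h⟩)
    have hxS : x • l ∈ S := hinv x hx l hl
    have e := orbit_stab B (x • l)
    have e1 : Nat.card (MulAction.orbit B (x • l)) = q := by
      have h3 : MulAction.orbit B (x • l) = S \ {l} := by
        ext m
        constructor
        · rintro ⟨g, rfl⟩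
          refine ⟨hinv g (hBP g.2) _ hxS, fun h => hxl ?_⟩
          have h4 : (g : G) • (x • l) = l := h
          have h5 := ((hB _).1 g.2).2
          have h6 : (g : G) • (x • l) = (g : G) • l := h4.trans h5.symm
          exact MulAction.injective _ h6
        · rintro ⟨hm, hml⟩
          obtain ⟨g, hg, hg'⟩ := h2 _ hxS m hm hxl hml
          exact ⟨⟨g, hg⟩, hg'⟩
      rw [h3, Nat.card_coe_set_eq, Set.ncard_sdiff (Set.singleton_subset_iff.2 hl), Set.ncard_singleton,
        ← Nat.card_coe_set_eq, hS, Nat.add_sub_cancel]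
    have e2 : Nat.card (MulAction.stabilizer B (x • l)) = Nat.card (dsub B x) := by
      refine Nat.card_congr (Equiv.subtypeEquivRight fun t => ?_)
      rw [mem_dsub, hB, MulAction.mem_stabilizer_iff]
      constructor
      · intro h
        refine ⟨mul_mem (mul_mem (inv_mem hx) (hBP t.2)) hx, ?_⟩
        have h4 : (t : G) • (x • l) = x • l := h
        rw [mul_smul, mul_smul, h4, inv_smul_smul]
      · rintro ⟨-, h⟩
        rw [mul_smul, mul_smul, inv_smul_eq_iff] at h
        exact h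
    rw [← e, e1, e2]

end act

end Cfsg.Agent.H272.Eight
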